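import Groth.Agent.Lib.SmoothObs3.Main
import Groth.Agent.Lib.CurveLiftH7.Ext
import Groth.Agent.Lib.FormalH7.OshSurj
import Groth.Agent.Lib.FormalH7.Ideal
import Groth.Agent.Lib.FormalH7.AffineSys
import Groth.Agent.Lib.Deform4Main
import Groth.Agent.Lib.FormSmooth4.Lift
import Groth.Agent.Lib.CohFound.HHBridge

/-! Smooth lifts of affine schemes along nilpotent thickenings. -/

set_option autoImplicit false
set_option linter.style.haveILetI false
universe u

open CategoryTheory CategoryTheory.Limits AlgebraicGeometry TopologicalSpace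

namespace Groth.Agent.SmoothLiftAffH7

/-- Morphisms into smooth schemes lift along nilpotent ideals of affine schemes. -/
theorem exists_lift {X' Y : Scheme.{u}} (g : X' ⟶ Y) [Smooth g] {A : Type u} [CommRing A] (I : Ideal A)
    (hI : IsNilpotent I) : ∀ (a₀ : Spec (.of (A ⧸ I)) ⟶ X') (a : Spec (.of A) ⟶ Y),
      a₀ ≫ g = Spec.map (CommRingCat.ofHom (Ideal.Quotient.mk I)) ≫ a →
      ∃ b : Spec (.of A) ⟶ X', b ≫ g = a ∧ Spec.map (CommRingCat.ofHom (Ideal.Quotient.mk I)) ≫ b = a₀ := by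
  have hfs : ∀ x : X', ∃ (U : X'.Opens) (V : Y.Opens) (_ : IsAffineOpen U) (_ : IsAffineOpen V) (e : U ≤ g ⁻¹ᵁ V),
      x ∈ U ∧ (g.appLE V U e).hom.FormallySmooth := fun x => by
    obtain ⟨V, hV, hxV, -⟩ := exists_isAffineOpen_mem_and_subset (x := g x) (U := ⊤) trivial
    obtain ⟨U, hU, hxU, hUV⟩ := exists_isAffineOpen_mem_and_subset (x := x) (U := g ⁻¹ᵁ V) hxV
    have h := HasRingHomProperty.appLE (P := @Smooth) g inferInstance ⟨V, hV⟩ ⟨U, hU⟩ hUV
    exact ⟨U, V, hU, hV, hUV, hxU, h.formallySmooth⟩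
  apply Ideal.IsNilpotent.induction_on (S := A) I hI
  · intro B _ I hI a₀ a w
    exact FormSmooth4.exists_lift_spec g hfs I hI a₀ a w
  · intro B _ I J hIJ h1 h2 a₀ a w
    let e : (B ⧸ I) ⧸ J.map (Ideal.Quotient.mk I) ≃+* B ⧸ J :=
      (DoubleQuot.quotQuotEquivQuotSup I J).trans (Ideal.quotEquivOfEq (sup_eq_right.mpr hIJ))
    have he : e.toRingHom.comp ((Ideal.Quotient.mk _).comp (Ideal.Quotient.mk I)) = Ideal.Quotient.mk J :=
      RingHom.ext fun _ => rfl
    have he' : e.symm.toRingHom.comp (Ideal.Quotient.mk J) =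
        (Ideal.Quotient.mk _).comp (Ideal.Quotient.mk I) := RingHom.ext fun x => by
      rw [← he]; exact e.symm_apply_apply _
    obtain ⟨b₁, hb₁, hb₁'⟩ := h2 (Spec.map (CommRingCat.ofHom e.symm.toRingHom) ≫ a₀)
      (Spec.map (CommRingCat.ofHom (Ideal.Quotient.mk I)) ≫ a) (by
        rw [Category.assoc, w, ← Spec.map_comp_assoc, ← Spec.map_comp_assoc, ← CommRingCat.ofHom_comp,
          ← CommRingCat.ofHom_comp, he'])
    obtain ⟨b, hb, hb'⟩ := h1 b₁ a hb₁
    refine ⟨b, hb, ?_⟩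
    rw [← he, CommRingCat.ofHom_comp, CommRingCat.ofHom_comp, Spec.map_comp, Spec.map_comp, Category.assoc,
      Category.assoc, hb', hb₁', ← Spec.map_comp_assoc, ← CommRingCat.ofHom_comp,
      show e.toRingHom.comp e.symm.toRingHom = RingHom.id _ from RingHom.ext fun z => e.apply_symm_apply z,
      CommRingCat.ofHom_id, Spec.map_id, Category.id_comp]

variable {Y₀ Y X₀ : Scheme.{u}}

/-- A scheme cartesian over a nilpotent thickening of an affine scheme is affine. -/
theorem isAffine_of_sq (i : Y₀ ⟶ Y) [IsClosedImmersion i] [Surjective i] (hn : IsNilpotent i.ker)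
    {f₀ : X₀ ⟶ Y₀} [IsAffine X₀] {X : Scheme.{u}} {g : X ⟶ Y} {j : X₀ ⟶ X} (h : IsPullback j f₀ g i) :
    IsAffine X := by
  haveI : IsClosedImmersion j := MorphismProperty.of_isPullback h.flip ‹IsClosedImmersion i›
  haveI : Surjective j := MorphismProperty.of_isPullback h.flip ‹Surjective i›
  obtain ⟨n, hn⟩ := hn
  have hj : j.ker ^ n = ⊥ := by
    rw [FormalH7.ker_of_isPullback h, ← BlowUpExist.comap_pow, show i.ker ^ n = ⊥ from hn,
      Scheme.IdealSheafData.comap_bot]
  refine FormalH7.isAffine_of_locally_nilpotent j fun V => ⟨n, ?_⟩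
  have := congrArg (fun I : X.IdealSheafData => I.ideal V) hj
  simpa [Scheme.IdealSheafData.ideal_pow] using this

/-- The kernel of a surjective closed immersion into a Noetherian scheme is nilpotent. -/
theorem isNilpotent_ker (i : Y₀ ⟶ Y) [IsClosedImmersion i] [Surjective i] [IsLocallyNoetherian Y] [CompactSpace Y] :
    IsNilpotent i.ker := by
  obtain ⟨s, hs, hcov⟩ := isCompact_iff_finite_and_eq_biUnion_affineOpens.1
    (show IsCompact ((⊤ : Y.Opens) : Set Y) from isCompact_univ)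
  have hnil : ∀ V : Y.affineOpens, IsNilpotent (i.ker.ideal V) := fun V => by
    haveI : IsNoetherianRing Γ(Y, V.1) := IsLocallyNoetherian.component_noetherian V
    refine (Ideal.FG.isNilpotent_iff_le_nilradical (IsNoetherian.noetherian _)).2 ?_
    rw [Scheme.Hom.ker_apply]
    exact Deform4.ker_le_nilradical V
  choose m hm using hnil
  haveI := hs.to_subtype
  haveI := Fintype.ofFinite s
  refine ⟨Finset.univ.sup fun V : s => m V.1, Scheme.IdealSheafData.ext_of_iSup_eq_top (U := fun V : s => V.1) ?_ fun V => ?_⟩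
  · exact eq_top_iff.2 (hcov.le.trans (iSup₂_le fun V hV => le_iSup (fun V : s => (V.1 : Y.Opens)) ⟨V, hV⟩))
  · simp only [Scheme.IdealSheafData.ideal_pow, Pi.pow_apply]
    refine le_bot_iff.1 ((Ideal.pow_le_pow_right (Finset.le_sup (f := fun V : s => m V.1) (Finset.mem_univ V))).trans ?_)
    exact (hm V.1).le

/-- Existence. -/
theorem exists_smooth_sq : ∀ (n : ℕ) {Y₀ Y X₀ : Scheme.{u}} [IsLocallyNoetherian Y] (i : Y₀ ⟶ Y) [IsClosedImmersion i]
    [Surjective i], i.ker ^ (n + 2) = ⊥ → ∀ (f₀ : X₀ ⟶ Y₀) [Smooth f₀] [IsAffine X₀],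
      ∃ (X : Scheme.{u}) (g : X ⟶ Y) (j : X₀ ⟶ X), Smooth g ∧ IsPullback j f₀ g i := by
  have step : ∀ {Y₀ Y X₀ : Scheme.{u}} [IsLocallyNoetherian Y] (i : Y₀ ⟶ Y) [IsClosedImmersion i]
      [Surjective i], i.ker * i.ker = ⊥ → ∀ (f₀ : X₀ ⟶ Y₀) [Smooth f₀] [IsAffine X₀],
      ∃ (X : Scheme.{u}) (g : X ⟶ Y) (j : X₀ ⟶ X), Smooth g ∧ IsPullback j f₀ g i := by
    intro Y₀ Y X₀ _ i _ _ hI f₀ _ _
    haveI : IsLocallyNoetherian Y₀ := LocallyOfFiniteType.isLocallyNoetherian i
    haveI : HasExt.{u} X₀.Modules := hasExt_of_enoughInjectives _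
    haveI : QuasiSeparated f₀ := inferInstance
    refine SmoothObs3.exists_smooth_lift f₀ i hI (CurveLiftH7.subsingleton_ext_omega f₀
      (M1.isQCoh_pullback (f₀ ≫ i) (M2.isQCoh_idealMod i.ker)) 2 fun M hM => ?_)
    haveI : M.IsQuasicoherent := hM
    exact CohFound.subsingleton_HH_affine M 2 (by norm_num)
  intro n
  induction n with
  | zero =>
    intro Y₀ Y X₀ _ i _ _ hI f₀ _ _
    exact step i (by rw [← pow_two]; simpa using hI) f₀
  | succ n ih =>
    intro Y₀ Y X₀ _ i _ _ hI f₀ _ _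
    let J := i.ker ^ (n + 2)
    let j₁ := J.subschemeι
    have hle : J ≤ i.ker := fun U => by
      simp only [J, Scheme.IdealSheafData.ideal_pow, Pi.pow_apply]
      exact Ideal.pow_le_self (by omega)
    let i' : Y₀ ⟶ J.subscheme := IsClosedImmersion.lift j₁ i (by rw [Scheme.IdealSheafData.ker_subschemeι]; exact hle)
    have hfac : i' ≫ j₁ = i := IsClosedImmersion.lift_fac _ _ _
    haveI : IsClosedImmersion (i' ≫ j₁) := by rw [hfac]; infer_instance
    haveI : IsClosedImmersion i' := IsClosedImmersion.of_comp i' j₁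
    haveI : Surjective (i' ≫ j₁) := by rw [hfac]; infer_instance
    haveI : Surjective i' := ⟨fun z => by
      obtain ⟨x, hx⟩ := (i' ≫ j₁).surjective (j₁ z)
      exact ⟨x, j₁.isClosedEmbedding.injective (by rwa [Scheme.Hom.comp_apply] at hx)⟩⟩
    haveI : Surjective j₁ := Surjective.of_comp i' j₁
    haveI : IsLocallyNoetherian J.subscheme := LocallyOfFiniteType.isLocallyNoetherian j₁
    have hk : i'.ker ^ (n + 2) = ⊥ := by
      rw [FormalH7.ker_eq_comap_of_comp hfac, ← BlowUpExist.comap_pow,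
        show i.ker ^ (n + 2) = j₁.ker from (Scheme.IdealSheafData.ker_subschemeι J).symm, FormalH7.comap_ker_self]
    obtain ⟨X₁, g₁, j', hg₁, hsq₁⟩ := ih i' hk f₀
    haveI := hg₁
    haveI := isAffine_of_sq i' ⟨n + 2, hk⟩ hsq₁
    have hJ : j₁.ker * j₁.ker = ⊥ := by
      rw [Scheme.IdealSheafData.ker_subschemeι, ← pow_add, show n + 2 + (n + 2) = (n + 1 + 2) + (n + 1) by omega,
        pow_add, hI]
      exact bot_le.antisymm (fun U => by simp [Scheme.IdealSheafData.ideal_mul]) |>.symm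
    obtain ⟨X, g, j, hg, hsq⟩ := step j₁ hJ g₁
    exact ⟨X, g, j' ≫ j, hg, by rw [← hfac]; exact hsq₁.paste_horiz hsq⟩

/-- Uniqueness. -/
theorem exists_iso (i : Y₀ ⟶ Y) [IsLocallyNoetherian Y] [IsClosedImmersion i] [Surjective i] (hn : IsNilpotent i.ker)
    {f₀ : X₀ ⟶ Y₀} [IsAffine X₀] {X X' : Scheme.{u}} {g : X ⟶ Y} {g' : X' ⟶ Y} [Smooth g] [Smooth g']
    {j : X₀ ⟶ X} {j' : X₀ ⟶ X'} (h : IsPullback j f₀ g i) (h' : IsPullback j' f₀ g' i) :
    ∃ φ : X ≅ X', φ.hom ≫ g' = g ∧ j ≫ φ.hom = j' := by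
  haveI := isAffine_of_sq i hn h
  haveI : IsClosedImmersion j := MorphismProperty.of_isPullback h.flip ‹IsClosedImmersion i›
  haveI : IsClosedImmersion j' := MorphismProperty.of_isPullback h'.flip ‹IsClosedImmersion i›
  haveI : Surjective j' := MorphismProperty.of_isPullback h'.flip ‹Surjective i›
  let A := Γ(X, ⊤)
  let I : Ideal A := RingHom.ker j.appTop.hom
  have hI : IsNilpotent I := by
    obtain ⟨n, hn⟩ := hn
    have hj : j.ker ^ n = ⊥ := by
      rw [FormalH7.ker_of_isPullback h, ← BlowUpExist.comap_pow, show i.ker ^ n = ⊥ from hn,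
        Scheme.IdealSheafData.comap_bot]
    refine ⟨n, ?_⟩
    have := congrArg (fun K : X.IdealSheafData => K.ideal ⟨⊤, isAffineOpen_top X⟩) hj
    simp only [Scheme.IdealSheafData.ideal_pow, Pi.pow_apply, Scheme.Hom.ker_apply] at this
    exact this.trans (by simp)
  let e := RingHom.quotientKerEquivOfSurjective (f := j.appTop.hom) (j.app_surjective ⊤ (isAffineOpen_top X))
  let ε : Spec (.of (A ⧸ I)) ⟶ X₀ := Spec.map (CommRingCat.ofHom e.symm.toRingHom) ≫ X₀.isoSpec.inv
  have hnat : X₀.isoSpec.inv ≫ j = Spec.map j.appTop ≫ X.isoSpec.inv := by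
    rw [Iso.inv_comp_eq, ← Category.assoc, Iso.eq_comp_inv]
    exact (Scheme.isoSpec_hom_naturality j).symm
  have hε : ε ≫ j = Spec.map (CommRingCat.ofHom (Ideal.Quotient.mk I)) ≫ X.isoSpec.inv := by
    rw [Category.assoc, hnat, ← Category.assoc, ← Spec.map_comp]
    refine congrArg (fun m => Spec.map m ≫ X.isoSpec.inv) (CommRingCat.hom_ext (RingHom.ext fun x => ?_))
    exact e.symm_apply_apply (Ideal.Quotient.mk I x)
  obtain ⟨b, hb, hb'⟩ := exists_lift g' I hI (ε ≫ j') (X.isoSpec.inv ≫ g) (by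
    rw [← Category.assoc (Spec.map _), ← hε, Category.assoc ε j g, Category.assoc ε j' g', h.w, h'.w])
  let φ := X.isoSpec.hom ≫ b
  have hφg : φ ≫ g' = g := by rw [Category.assoc, hb, Iso.hom_inv_id_assoc]
  have hjφ : j ≫ φ = j' := by
    have he : IsIso ε := by
      haveI : IsIso (CommRingCat.ofHom e.symm.toRingHom) := (ConcreteCategory.isIso_iff_bijective _).2 e.symm.bijective
      exact inferInstanceAs (IsIso (_ ≫ _))
    rw [← cancel_epi ε, ← Category.assoc, hε, Category.assoc, Iso.inv_hom_id_assoc, hb']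
  have hcX : IsPullback j (𝟙 X₀ ≫ f₀) (φ ≫ g') i := by rw [Category.id_comp, hφg]; exact h
  haveI : Flat (φ ≫ g') := by rw [hφg]; infer_instance
  have hfl : Flat φ := Deform4.flat_of_nilpotent hcX h' (by rw [hjφ, Category.id_comp]) hn inferInstance
  have hc : IsPullback j (𝟙 X₀) φ j' := Deform4.isPullback_deform hcX h' (by rw [hjφ, Category.id_comp])
  haveI : LocallyOfFiniteType (φ ≫ g') := by rw [hφg]; infer_instance
  haveI : LocallyOfFiniteType φ := locallyOfFiniteType_of_comp φ g'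
  haveI : IsLocallyNoetherian X' := LocallyOfFiniteType.isLocallyNoetherian g'
  have hfp : LocallyOfFinitePresentation φ := inferInstance
  haveI : IsIso φ := Deform4.isIso_of hc hfl hfp inferInstance
  exact ⟨asIso φ, hφg, hjφ⟩

end Groth.Agent.SmoothLiftAffH7
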